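import Groth.Prelude.Def_W4c5flasquetoriphsGLat
import Mathlib

/-!
Permutation modules over a finite group are flasque and coflasque; the standard covers and
embeddings of lattices.
-/

open scoped Classical

noncomputable section

namespace Groth.Agent.GLatLib

variable {G : Type} [Group G] {M N L : Type} [AddCommGroup M] [AddCommGroup N] [AddCommGroup L]

lemma rep_mul_apply (ρ : Representation ℤ G M) (a b : G) (m : M) :
    ρ (a * b) m = ρ a (ρ b m) := by
  rw [map_mul]; rfl

lemma rep_one_apply (ρ : Representation ℤ G M) (m : M) : ρ 1 m = m := by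
  rw [map_one]; rfl

/-- permutation representation on `X → ℤ` -/
def permRep (G : Type) [Group G] (X : Type) [MulAction G X] : Representation ℤ G (X → ℤ) where
  toFun g := LinearMap.funLeft ℤ ℤ (fun x : X => g⁻¹ • x)
  map_one' := by ext p x; simp [LinearMap.funLeft]
  map_mul' a b := by ext p x; simp [LinearMap.funLeft, mul_smul]

@[simp] lemma permRep_apply (X : Type) [MulAction G X] (g : G) (p : X → ℤ) (x : X) :
    permRep G X g p x = p (g⁻¹ • x) := rfl

lemma permRep_single (X : Type) [MulAction G X] (g : G) (x : X) (n : ℤ) :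
    permRep G X g (Pi.single x n) = Pi.single (g • x) n := by
  funext y
  rw [permRep_apply]
  by_cases h : y = g • x
  · subst h; simp
  · rw [Pi.single_eq_of_ne h, Pi.single_eq_of_ne]
    exact fun e => h (by rw [← e, smul_inv_smul])

lemma isPermutation_permRep (X : Type) [MulAction G X] [Finite X] :
    GLat.IsPermutation (permRep G X) := by
  refine ⟨X, Pi.basisFun ℤ X, fun g i => ⟨g • i, ?_⟩⟩
  simp [permRep_single]

lemma isCoflasque_permRep [Finite G] (X : Type) [MulAction G X] :
    GLat.IsCoflasque (permRep G X) := by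
  intro H f hf
  let : Fintype H := Fintype.ofFinite H
  let m : X → ℤ := -∑ b : H, f b
  have key : ∀ (a : H) (x : X),
      m ((a : G)⁻¹ • x) - m x = (Fintype.card H : ℤ) * f a x := by
    intro a x
    have h1 : ∀ b : H, f (a * b) x = f a x + f b ((a : G)⁻¹ • x) := fun b => by rw [hf]; rfl
    have h2 : ∑ b : H, f (a * b) x = ∑ b : H, f b x :=
      Fintype.sum_equiv (Equiv.mulLeft a) _ _ (fun b => rfl)
    simp only [h1, Finset.sum_add_distrib, Finset.sum_const, Finset.card_univ, nsmul_eq_mul] at h2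
    simp only [m, Pi.neg_apply, Finset.sum_apply]
    linarith
  let r : X → X := fun x =>
    (Quotient.mk (MulAction.orbitRel H X) x).out
  have hr : ∀ x : X, ∃ h : H, h • r x = x := by
    intro x
    have e : (Quotient.mk (MulAction.orbitRel H X) (r x)) = Quotient.mk _ x := Quotient.out_eq _
    have := Quotient.exact e.symm
    exact this
  have hr2 : ∀ (a : H) (x : X), r ((a : G)⁻¹ • x) = r x := by
    intro a x
    apply congrArg Quotient.out
    exact Quotient.sound ⟨a⁻¹, rfl⟩
  have hdvd : ∀ x : X, (Fintype.card H : ℤ) ∣ m x - m (r x) := by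
    intro x
    obtain ⟨h, hh⟩ := hr x
    have hx : (h : G)⁻¹ • x = r x := by
      conv_lhs => rw [← hh]
      rw [Subgroup.smul_def, inv_smul_smul]
    refine ⟨-(f h x), ?_⟩
    have := key h x
    rw [hx] at this
    linarith
  choose p hp using hdvd
  refine ⟨p, fun a => ?_⟩
  funext x
  rw [Pi.sub_apply, permRep_apply]
  have hn : (Fintype.card H : ℤ) ≠ 0 := by exact_mod_cast Fintype.card_ne_zero
  apply mul_left_cancel₀ hn
  rw [mul_sub, ← hp, ← hp, hr2]
  linarith [key a x]

lemma finsum_rep (ρ : Representation ℤ G M) (H : Subgroup G) [Fintype H] (m : M) :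
    (∑ᶠ h : H, ρ (h : G) m) = ∑ h : H, ρ (h : G) m := finsum_eq_sum_of_fintype _

lemma norm_smul_invariant (ρ : Representation ℤ G M) (H : Subgroup G) [Fintype H] (k : H) (m : M) :
    ρ (k : G) (∑ h : H, ρ (h : G) m) = ∑ h : H, ρ (h : G) m := by
  rw [map_sum]
  refine Fintype.sum_equiv (Equiv.mulLeft k) _ _ (fun h => ?_)
  simp [rep_mul_apply]

lemma norm_comp_smul (ρ : Representation ℤ G M) (H : Subgroup G) [Fintype H] (k : H) (m : M) :
    (∑ h : H, ρ (h : G) (ρ (k : G) m)) = ∑ h : H, ρ (h : G) m := by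
  refine Fintype.sum_equiv (Equiv.mulRight k) _ _ (fun h => ?_)
  simp [rep_mul_apply]

/-- the augmentation submodule of a subgroup -/
def aug (ρ : Representation ℤ G M) (H : Subgroup G) : Submodule ℤ M :=
  Submodule.span ℤ {x : M | ∃ (h : H) (y : M), x = ρ (h : G) y - y}

lemma norm_aug (ρ : Representation ℤ G M) (H : Subgroup G) [Fintype H] {m : M}
    (hm : m ∈ aug ρ H) : (∑ h : H, ρ (h : G) m) = 0 := by
  induction hm using Submodule.span_induction with
  | mem x hx =>
    obtain ⟨k, y, rfl⟩ := hx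
    simp only [map_sub, Finset.sum_sub_distrib]
    rw [norm_comp_smul]; simp
  | zero => simp
  | add x y _ _ hx hy => simp [map_add, Finset.sum_add_distrib, hx, hy]
  | smul c x _ hx => simp [map_smul, ← Finset.smul_sum, hx]

lemma map_aug (ρ : Representation ℤ G M) (σ : Representation ℤ G N) (f : M →ₗ[ℤ] N)
    (hf : GLat.IsEquivariant ρ σ f) (H : Subgroup G) {m : M} (hm : m ∈ aug ρ H) :
    f m ∈ aug σ H := by
  induction hm using Submodule.span_induction with
  | mem x hx =>
    obtain ⟨k, y, rfl⟩ := hx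
    exact Submodule.subset_span ⟨k, f y, by rw [map_sub, hf]⟩
  | zero => simp
  | add x y _ _ hx hy => simpa [map_add] using add_mem hx hy
  | smul c x _ hx => simpa [map_smul] using Submodule.smul_mem _ c hx

lemma norm_map (ρ : Representation ℤ G M) (σ : Representation ℤ G N) (f : M →ₗ[ℤ] N)
    (hf : GLat.IsEquivariant ρ σ f) (H : Subgroup G) [Fintype H] (m : M) :
    f (∑ h : H, ρ (h : G) m) = ∑ h : H, σ (h : G) (f m) := by
  simp [map_sum, hf _ _]

lemma isFlasque_permRep [Finite G] (X : Type) [MulAction G X] [Finite X] :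
    GLat.IsFlasque (permRep G X) := by
  intro H p hp
  let : Fintype H := Fintype.ofFinite H
  let : Fintype X := Fintype.ofFinite X
  rw [finsum_rep] at hp
  change p ∈ aug (permRep G X) H
  let r : X → X := fun x => (Quotient.mk (MulAction.orbitRel H X) x).out
  have hr : ∀ x : X, ∃ h : H, h • r x = x := fun x =>
    Quotient.exact (Quotient.out_eq (Quotient.mk (MulAction.orbitRel H X) x)).symm
  let q : X → ℤ := ∑ x : X, Pi.single (r x) (p x)
  have hpq : p - q ∈ aug (permRep G X) H := by
    have e : p - q = ∑ x : X, (Pi.single x (p x) - Pi.single (r x) (p x) : X → ℤ) := by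
      rw [Finset.sum_sub_distrib, Finset.univ_sum_single]
    rw [e]
    refine Submodule.sum_mem _ (fun x _ => Submodule.subset_span ?_)
    obtain ⟨h, hh⟩ := hr x
    refine ⟨h, Pi.single (r x) (p x), ?_⟩
    rw [permRep_single]
    rw [show (h : G) • r x = x from hh]
  have hq : q = 0 := by
    have hNq : (∑ h : H, permRep G X (h : G) q) = 0 := by
      have := norm_aug _ H hpq
      simpa [map_sub, Finset.sum_sub_distrib, hp] using this
    funext y
    by_cases hy : r y = y
    · have hsum := congr_fun hNq y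
      simp only [Finset.sum_apply, permRep_apply, Pi.zero_apply] at hsum
      have hz : ∀ h : H, q ((h : G)⁻¹ • y) =
          if (h : G)⁻¹ • y = y then q y else 0 := by
        intro h
        split_ifs with e
        · rw [e]
        · simp only [q, Finset.sum_apply]
          refine Finset.sum_eq_zero (fun x _ => Pi.single_eq_of_ne ?_ _)
          intro hx
          apply e
          have h1 : Quotient.mk (MulAction.orbitRel H X) x =
              Quotient.mk (MulAction.orbitRel H X) y := by
            have h2 : Quotient.mk (MulAction.orbitRel H X) (r x) = Quotient.mk _ x :=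
              Quotient.out_eq _
            rw [← h2, ← hx]
            exact Quotient.sound ⟨h⁻¹, rfl⟩
          rw [hx]
          show r x = y
          rw [show r x = r y from congrArg Quotient.out h1, hy]
      simp only [hz, ← Finset.sum_filter, Finset.sum_const, nsmul_eq_mul] at hsum
      have hne : ({h : H | (h : G)⁻¹ • y = y} : Finset H).card ≠ 0 :=
        Finset.card_ne_zero.2 ⟨1, by simp⟩
      exact (mul_eq_zero.1 hsum).resolve_left (by exact_mod_cast hne)
    · simp only [q, Finset.sum_apply, Pi.zero_apply]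
      refine Finset.sum_eq_zero (fun x _ => Pi.single_eq_of_ne ?_ _)
      intro hx
      apply hy
      rw [hx]
      exact congrArg Quotient.out (Quotient.out_eq _)
  simpa [hq] using hpq

/-- restriction of a representation to a stable submodule -/
def subRep (ρ : Representation ℤ G M) (S : Submodule ℤ M) (hS : ∀ g, ∀ x ∈ S, ρ g x ∈ S) :
    Representation ℤ G S where
  toFun g := (ρ g).restrict (hS g)
  map_one' := by
    apply LinearMap.ext; intro x; apply Subtype.ext
    exact rep_one_apply ρ (x : M)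
  map_mul' a b := by
    apply LinearMap.ext; intro x; apply Subtype.ext
    exact rep_mul_apply ρ a b (x : M)

/-- representation on the quotient by a stable submodule -/
def quotRep (ρ : Representation ℤ G M) (S : Submodule ℤ M) (hS : ∀ g, ∀ x ∈ S, ρ g x ∈ S) :
    Representation ℤ G (M ⧸ S) where
  toFun g := S.mapQ S (ρ g) (hS g)
  map_one' := by
    apply LinearMap.ext; intro x
    obtain ⟨m, rfl⟩ := Submodule.mkQ_surjective S x
    exact congrArg S.mkQ (rep_one_apply ρ m)
  map_mul' a b := by
    apply LinearMap.ext; intro x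
    obtain ⟨m, rfl⟩ := Submodule.mkQ_surjective S x
    exact congrArg S.mkQ (rep_mul_apply ρ a b m)

/-- product representation -/
def prodRep (ρ : Representation ℤ G M) (σ : Representation ℤ G N) :
    Representation ℤ G (M × N) where
  toFun g := LinearMap.prodMap (ρ g) (σ g)
  map_one' := by
    apply LinearMap.ext; intro x; exact Prod.ext (rep_one_apply ρ x.1) (rep_one_apply σ x.2)
  map_mul' a b := by
    apply LinearMap.ext; intro x
    exact Prod.ext (rep_mul_apply ρ a b x.1) (rep_mul_apply σ a b x.2)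

lemma isFlasque_of_extension [Finite G] (ρ : Representation ℤ G M) (σ : Representation ℤ G N)
    (τ : Representation ℤ G L) (i : M →ₗ[ℤ] N) (π : N →ₗ[ℤ] L)
    (hi : GLat.IsEquivariant ρ σ i) (hπ : GLat.IsEquivariant σ τ π) (hinj : Function.Injective i)
    (hsurj : Function.Surjective π) (hex : LinearMap.range i = LinearMap.ker π)
    (h1 : GLat.IsFlasque ρ) (h3 : GLat.IsFlasque τ) : GLat.IsFlasque σ := by
  intro H m hm
  let : Fintype H := Fintype.ofFinite H
  rw [finsum_rep] at hm
  change m ∈ aug σ H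
  have h3' : π m ∈ aug τ H := h3 H (π m) (by
    rw [finsum_rep, ← norm_map σ τ π hπ, hm, map_zero])
  have hlift : ∀ z ∈ aug τ H, ∃ w ∈ aug σ H, π w = z := by
    intro z hz
    induction hz using Submodule.span_induction with
    | mem x hx =>
      obtain ⟨k, y, rfl⟩ := hx
      obtain ⟨y', rfl⟩ := hsurj y
      exact ⟨_, Submodule.subset_span ⟨k, y', rfl⟩, by rw [map_sub, hπ]⟩
    | zero => exact ⟨0, zero_mem _, map_zero _⟩
    | add x y _ _ hx hy =>
      obtain ⟨a, ha, rfl⟩ := hx; obtain ⟨b, hb, rfl⟩ := hy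
      exact ⟨a + b, add_mem ha hb, map_add _ _ _⟩
    | smul c x _ hx =>
      obtain ⟨a, ha, rfl⟩ := hx
      exact ⟨c • a, Submodule.smul_mem _ c ha, map_smul _ _ _⟩
  obtain ⟨w, hw, hwm⟩ := hlift _ h3'
  have hker : m - w ∈ LinearMap.range i := by
    rw [hex, LinearMap.mem_ker, map_sub, hwm, sub_self]
  obtain ⟨a, ha⟩ := hker
  have hNa : (∑ h : H, ρ (h : G) a) = 0 := by
    apply hinj
    rw [norm_map ρ σ i hi, ha, map_zero]
    simp [map_sub, Finset.sum_sub_distrib, hm, norm_aug σ H hw]
  have ha' : a ∈ aug ρ H := h1 H a (by rw [finsum_rep]; exact hNa)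
  have := add_mem (map_aug ρ σ i hi H ha') hw
  rwa [ha, sub_add_cancel] at this

lemma isCoflasque_of_extension (ρ : Representation ℤ G M) (σ : Representation ℤ G N)
    (τ : Representation ℤ G L) (i : M →ₗ[ℤ] N) (π : N →ₗ[ℤ] L)
    (hi : GLat.IsEquivariant ρ σ i) (hπ : GLat.IsEquivariant σ τ π) (hinj : Function.Injective i)
    (hsurj : Function.Surjective π) (hex : LinearMap.range i = LinearMap.ker π)
    (h1 : GLat.IsCoflasque ρ) (h3 : GLat.IsCoflasque τ) : GLat.IsCoflasque σ := by
  intro H f hf
  obtain ⟨c, hc⟩ := h3 H (fun a => π (f a)) (fun a b => by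
    simp only [hf a b, map_add, hπ _ _])
  obtain ⟨b, rfl⟩ := hsurj c
  have hker : ∀ a : H, f a - (σ (a : G) b - b) ∈ LinearMap.range i := by
    intro a
    rw [hex, LinearMap.mem_ker, map_sub, map_sub, hπ, hc a, sub_self]
  choose g hg using hker
  obtain ⟨m, hm⟩ := h1 H g (fun a a' => by
    apply hinj
    rw [map_add, hi, hg, hg, hg, hf a a', Subgroup.coe_mul, rep_mul_apply]
    simp only [map_sub]
    abel)
  refine ⟨b + i m, fun a => ?_⟩
  have := congrArg i (hm a)
  rw [hg, map_sub, hi] at this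
  rw [map_add]
  rw [sub_eq_iff_eq_add] at this
  rw [this]; abel

/-- the invariants of a subgroup -/
def fixedPts (ρ : Representation ℤ G M) (H : Subgroup G) : Submodule ℤ M where
  carrier := {m | ∀ h : H, ρ (h : G) m = m}
  zero_mem' h := map_zero _
  add_mem' {x y} hx hy h := by rw [map_add, hx h, hy h]
  smul_mem' c x hx h := by rw [map_smul, hx h]

/-- a map out of a permutation module -/
def linComb {X : Type} [Fintype X] (w : X → M) : (X → ℤ) →ₗ[ℤ] M :=
  ∑ x, LinearMap.smulRight (LinearMap.proj x) (w x)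

lemma linComb_apply {X : Type} [Fintype X] (w : X → M) (p : X → ℤ) :
    linComb w p = ∑ x, p x • w x := by
  simp [linComb, LinearMap.sum_apply]

lemma linComb_single {X : Type} [Fintype X] (w : X → M) (x : X) (n : ℤ) :
    linComb w (Pi.single x n) = n • w x := by
  rw [linComb_apply, Finset.sum_eq_single x]
  · simp
  · intro y _ hy; simp [Pi.single_eq_of_ne hy]
  · simp

lemma free_of_retraction [Module.Finite ℤ N] [Module.Free ℤ N] (i : M →ₗ[ℤ] N) (r : N →ₗ[ℤ] M)
    (h : ∀ a, r (i a) = a) : Module.Free ℤ (N ⧸ LinearMap.range i) := by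
  have hc : IsCompl (LinearMap.range i) (LinearMap.ker r) := by
    constructor
    · rw [Submodule.disjoint_def]
      rintro _ ⟨a, rfl⟩ ha
      rw [LinearMap.mem_ker, h] at ha
      simp [ha]
    · rw [codisjoint_iff, Submodule.eq_top_iff']
      intro x
      refine Submodule.mem_sup.2 ⟨i (r x), ⟨_, rfl⟩, x - i (r x), ?_, by abel⟩
      simp [map_sub, h]
  exact Module.Free.of_equiv (Submodule.quotientEquivOfIsCompl _ _ hc).symm

lemma free_of_extension [Module.Free ℤ M] [Module.Free ℤ L] (i : M →ₗ[ℤ] N) (π : N →ₗ[ℤ] L)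
    (hinj : Function.Injective i) (hsurj : Function.Surjective π)
    (hex : LinearMap.range i = LinearMap.ker π) : Module.Free ℤ N := by
  obtain ⟨s, hs⟩ := Module.projective_lifting_property π LinearMap.id hsurj
  have hs' : ∀ x, π (s x) = x := fun x => LinearMap.congr_fun hs x
  refine Module.Free.of_equiv (LinearEquiv.ofBijective (i.coprod s) ⟨?_, ?_⟩)
  · rw [injective_iff_map_eq_zero]
    rintro ⟨a, c⟩ h
    simp only [LinearMap.coprod_apply] at h
    have h0 : π (i a) = 0 := by
      rw [← LinearMap.mem_ker, ← hex]; exact ⟨a, rfl⟩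
    have hc : c = 0 := by simpa [map_add, h0, hs'] using congrArg π h
    subst hc
    simp only [map_zero, add_zero] at h
    rw [show a = 0 from hinj (by rw [h, map_zero])]
    rfl
  · intro x
    have : x - s (π x) ∈ LinearMap.range i := by
      rw [hex, LinearMap.mem_ker, map_sub, hs', sub_self]
    obtain ⟨a, ha⟩ := this
    exact ⟨(a, π x), by simp [ha]⟩

section sigmaSet

variable (κ : Subgroup G → Type)

/-- the disjoint union of the coset spaces, with multiplicities `κ` -/
def CosetUnion : Type := Σ H : Subgroup G, (G ⧸ H) × κ H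

instance : MulAction G (CosetUnion κ) where
  smul g x := ⟨x.1, g • x.2.1, x.2.2⟩
  one_smul x := by
    show (⟨x.1, (1 : G) • x.2.1, x.2.2⟩ : Σ H : Subgroup G, (G ⧸ H) × κ H) = _
    rw [one_smul]; rfl
  mul_smul a b x := by
    show (⟨x.1, (a * b) • x.2.1, x.2.2⟩ : Σ H : Subgroup G, (G ⧸ H) × κ H) = _
    rw [mul_smul]; rfl

instance [Finite G] [∀ H, Finite (κ H)] : Finite (CosetUnion κ) :=
  inferInstanceAs (Finite (Σ H : Subgroup G, (G ⧸ H) × κ H))

/-- base point -/
def basePt (H : Subgroup G) (j : κ H) : CosetUnion κ := ⟨H, ((1 : G) : G ⧸ H), j⟩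

lemma smul_basePt (H : Subgroup G) (j : κ H) (h : H) :
    (h : G) • basePt κ H j = basePt κ H j := by
  show (⟨H, ((h : G) • ((1 : G) : G ⧸ H)), j⟩ : Σ H : Subgroup G, (G ⧸ H) × κ H) = _
  have : (h : G) • ((1 : G) : G ⧸ H) = ((1 : G) : G ⧸ H) := by
    rw [MulAction.Quotient.smul_coe]
    rw [QuotientGroup.eq]
    simp
  rw [this]; rfl

end sigmaSet

theorem exists_cover (G : Type) [Group G] [Finite G] (A : Type) [AddCommGroup A]
    [Module.Finite ℤ A] (ρ : Representation ℤ G A) :
    ∃ (X : Type) (_ : MulAction G X) (_ : Finite X) (π : (X → ℤ) →ₗ[ℤ] A),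
      GLat.IsEquivariant (permRep G X) ρ π ∧ Function.Surjective π ∧
      ∃ hS : ∀ g, ∀ x ∈ LinearMap.ker π, permRep G X g x ∈ LinearMap.ker π,
        GLat.IsCoflasque (subRep (permRep G X) (LinearMap.ker π) hS) := by
  have hfg : ∀ H : Subgroup G, ∃ (n : ℕ) (v : Fin n → fixedPts ρ H),
      Submodule.span ℤ (Set.range v) = ⊤ := fun H => Module.Finite.exists_fin
  choose n v hv using hfg
  let κ : Subgroup G → Type := fun H => Fin (n H)
  let : Fintype (CosetUnion κ) := Fintype.ofFinite _
  let w : CosetUnion κ → A := fun x =>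
    Quotient.liftOn' x.2.1 (fun g => ρ g (v x.1 x.2.2 : A)) (fun a b hab => by
      rw [QuotientGroup.leftRel_apply] at hab
      show ρ a _ = ρ b _
      rw [show b = a * (a⁻¹ * b) by simp, rep_mul_apply]
      exact congrArg (ρ a) ((v x.1 x.2.2).2 ⟨_, hab⟩).symm)
  have hw : ∀ (g : G) (x : CosetUnion κ), w (g • x) = ρ g (w x) := by
    rintro g ⟨H, c, j⟩
    induction c using QuotientGroup.induction_on with
    | H a => exact rep_mul_apply ρ g a _
  have hw0 : ∀ (H : Subgroup G) (j : κ H), w (basePt κ H j) = (v H j : A) :=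
    fun H j => rep_one_apply ρ _
  have heq : GLat.IsEquivariant (permRep G (CosetUnion κ)) ρ (linComb w) := by
    intro g p
    rw [linComb_apply, linComb_apply, map_sum]
    refine Fintype.sum_equiv (MulAction.toPerm g⁻¹) _ _ (fun x => ?_)
    simp [← hw, map_zsmul]
  have hfix : ∀ (H : Subgroup G) (a : A), a ∈ fixedPts ρ H →
      ∃ p : CosetUnion κ → ℤ, (∀ h : H, permRep G _ (h : G) p = p) ∧ linComb w p = a := by
    intro H a ha
    have h1 : (⟨a, ha⟩ : fixedPts ρ H) ∈ Submodule.span ℤ (Set.range (v H)) := by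
      rw [hv H]; trivial
    obtain ⟨c, hc⟩ := (Submodule.mem_span_range_iff_exists_fun ℤ).1 h1
    refine ⟨∑ j, Pi.single (basePt κ H j) (c j), fun h => ?_, ?_⟩
    · rw [map_sum]
      exact Finset.sum_congr rfl (fun j _ => by rw [permRep_single, smul_basePt])
    · rw [map_sum]
      have := congrArg (fun z : fixedPts ρ H => (z : A)) hc
      simp only [Submodule.coe_sum, Submodule.coe_smul] at this
      exact Eq.trans (Finset.sum_congr rfl (fun j _ => by rw [linComb_single, hw0])) this
  refine ⟨CosetUnion κ, inferInstance, inferInstance, linComb w, heq, ?_, ?_, ?_⟩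
  · intro a
    obtain ⟨p, -, hp⟩ := hfix ⊥ a (fun h => by
      rw [show (h : G) = 1 from Subgroup.mem_bot.1 h.2]; exact rep_one_apply ρ a)
    exact ⟨p, hp⟩
  · intro g x hx
    rw [LinearMap.mem_ker] at hx ⊢
    rw [heq, hx, map_zero]
  · intro H f hf
    obtain ⟨p, hp⟩ := isCoflasque_permRep (CosetUnion κ) H (fun a => (f a).1)
      (fun a b => congrArg Subtype.val (hf a b))
    have hpfix : linComb w p ∈ fixedPts ρ H := by
      intro a
      rw [← heq, ← sub_eq_zero, ← map_sub, ← hp a]
      exact (f a).2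
    obtain ⟨q, hq, hqp⟩ := hfix H _ hpfix
    refine ⟨⟨p - q, by simp [map_sub, hqp]⟩, fun a => Subtype.ext ?_⟩
    show (f a).1 = permRep G _ (a : G) (p - q) - (p - q)
    rw [map_sub, hq a, hp a]; abel

theorem exists_embedding (G : Type) [Group G] [Finite G] (A : Type) [AddCommGroup A]
    [Module.Finite ℤ A] [Module.Free ℤ A] (ρ : Representation ℤ G A) :
    ∃ (X : Type) (_ : MulAction G X) (_ : Finite X) (i : A →ₗ[ℤ] (X → ℤ)),
      GLat.IsEquivariant ρ (permRep G X) i ∧ Function.Injective i ∧
      Module.Free ℤ ((X → ℤ) ⧸ LinearMap.range i) ∧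
      ∃ hS : ∀ g, ∀ x ∈ LinearMap.range i, permRep G X g x ∈ LinearMap.range i,
        GLat.IsFlasque (quotRep (permRep G X) (LinearMap.range i) hS) := by
  let : ∀ H : Subgroup G, Fintype H := fun H => Fintype.ofFinite H
  let Nm : Subgroup G → (A →ₗ[ℤ] A) := fun H => ∑ h : H, ρ (h : G)
  have hNm : ∀ H a, Nm H a = ∑ h : H, ρ (h : G) a := fun H a => LinearMap.sum_apply _ _ _
  let κ : Subgroup G → Type := fun H => Module.Free.ChooseBasisIndex ℤ (LinearMap.range (Nm H))
  let bb : ∀ H : Subgroup G, Module.Basis (κ H) ℤ (LinearMap.range (Nm H)) :=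
    fun H => Module.Free.chooseBasis ℤ _
  let : ∀ H, Fintype (κ H) := fun H => inferInstanceAs (Fintype (Module.Free.ChooseBasisIndex ℤ _))
  let : Fintype (CosetUnion κ) := Fintype.ofFinite _
  let φ : ∀ H : Subgroup G, κ H → A →ₗ[ℤ] ℤ := fun H j =>
    ((bb H).coord j).comp (Nm H).rangeRestrict
  have hφ : ∀ H (j : κ H) (k : H) (a : A), φ H j (ρ (k : G) a) = φ H j a := by
    intro H j k a
    refine congrArg ((bb H).coord j) (Subtype.ext ?_)
    show Nm H _ = Nm H _
    rw [hNm, hNm, norm_comp_smul]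
  let ix : CosetUnion κ → (A →ₗ[ℤ] ℤ) := fun x =>
    Quotient.liftOn' x.2.1 (fun g => (φ x.1 x.2.2).comp (ρ g⁻¹)) (fun a b hab => by
      rw [QuotientGroup.leftRel_apply] at hab
      apply LinearMap.ext; intro z
      show φ x.1 x.2.2 (ρ a⁻¹ z) = φ x.1 x.2.2 (ρ b⁻¹ z)
      rw [show a⁻¹ = (a⁻¹ * b) * b⁻¹ by simp, rep_mul_apply]
      exact hφ x.1 x.2.2 ⟨_, hab⟩ _)
  have hix : ∀ (g : G) (x : CosetUnion κ) (a : A), ix (g⁻¹ • x) a = ix x (ρ g a) := by
    rintro g ⟨H, c, j⟩ a
    induction c using QuotientGroup.induction_on with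
    | H b =>
      show φ H j (ρ (g⁻¹ * b)⁻¹ a) = φ H j (ρ b⁻¹ (ρ g a))
      rw [mul_inv_rev, inv_inv, rep_mul_apply]
  have hix0 : ∀ (H : Subgroup G) (j : κ H) (a : A), ix (basePt κ H j) a = φ H j a := by
    intro H j a
    show φ H j (ρ (1 : G)⁻¹ a) = φ H j a
    rw [inv_one, rep_one_apply]
  let i : A →ₗ[ℤ] (CosetUnion κ → ℤ) := LinearMap.pi ix
  have heq : GLat.IsEquivariant ρ (permRep G (CosetUnion κ)) i := by
    intro g a; funext x
    exact (hix g x a).symm
  let r : (CosetUnion κ → ℤ) →ₗ[ℤ] A :=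
    ∑ j : κ (⊥ : Subgroup G),
      LinearMap.smulRight (LinearMap.proj (basePt κ ⊥ j)) (bb ⊥ j : A)
  have hr : ∀ a, r (i a) = a := by
    intro a
    simp only [r, LinearMap.sum_apply, LinearMap.smulRight_apply, LinearMap.proj_apply]
    simp only [i, LinearMap.pi_apply, hix0]
    have h1 := (bb ⊥).sum_repr ((Nm ⊥).rangeRestrict a)
    have h2 := congrArg (fun z : LinearMap.range (Nm ⊥) => (z : A)) h1
    simp only [Submodule.coe_sum, Submodule.coe_smul] at h2
    refine Eq.trans h2 ?_
    show Nm ⊥ a = a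
    rw [hNm, Finset.sum_eq_single (1 : (⊥ : Subgroup G))]
    · exact rep_one_apply ρ a
    · intro b _ hb; exact absurd (Subsingleton.elim b 1) hb
    · intro h; exact absurd (Finset.mem_univ _) h
  have hinj : Function.Injective i := Function.LeftInverse.injective hr
  have hS : ∀ g, ∀ x ∈ LinearMap.range i, permRep G (CosetUnion κ) g x ∈ LinearMap.range i := by
    rintro g _ ⟨a, rfl⟩
    exact ⟨ρ g a, heq g a⟩
  refine ⟨CosetUnion κ, inferInstance, inferInstance, i, heq, hinj,
    free_of_retraction i r hr, hS, ?_⟩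
  intro H m hm
  rw [finsum_rep] at hm
  obtain ⟨p, rfl⟩ := Submodule.mkQ_surjective _ m
  have hq : GLat.IsEquivariant (permRep G (CosetUnion κ)) (quotRep _ _ hS)
      (LinearMap.range i).mkQ := fun g x => rfl
  have hNp : (∑ h : H, permRep G (CosetUnion κ) (h : G) p) ∈ LinearMap.range i := by
    rw [← Submodule.Quotient.mk_eq_zero]
    exact (norm_map _ _ _ hq H p).trans hm
  obtain ⟨a, ha⟩ := hNp
  have hainv : ∀ k : H, ρ (k : G) a = a := by
    intro k
    apply hinj
    rw [heq, ha, norm_smul_invariant]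
  have hNa : Nm H a = (Fintype.card H : ℤ) • a := by
    rw [hNm, Finset.sum_congr rfl (fun h _ => hainv h), Finset.sum_const, Finset.card_univ,
      ← natCast_zsmul]
  have hdiv : ∀ j : κ H, φ H j a = (Fintype.card H : ℤ) * p (basePt κ H j) := by
    intro j
    have := congr_fun ha (basePt κ H j)
    simp only [i, LinearMap.pi_apply, hix0, Finset.sum_apply, permRep_apply] at this
    rw [this, Finset.sum_congr rfl (fun h _ => by
      rw [show (h : G)⁻¹ • basePt κ H j = basePt κ H j from smul_basePt κ H j h⁻¹]),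
      Finset.sum_const, Finset.card_univ, nsmul_eq_mul]
  let z : LinearMap.range (Nm H) := ∑ j, p (basePt κ H j) • bb H j
  have hz : (Fintype.card H : ℤ) • z = (Nm H).rangeRestrict a := by
    rw [← (bb H).sum_repr ((Nm H).rangeRestrict a), Finset.smul_sum]
    refine Finset.sum_congr rfl (fun j _ => ?_)
    rw [smul_smul, ← hdiv j]; rfl
  obtain ⟨b, hb⟩ := z.2
  have hab : (z : A) = a := by
    have h2 : (Fintype.card H : ℤ) • (z : A) = (Fintype.card H : ℤ) • a := by
      rw [← hNa]; exact congrArg Subtype.val hz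
    exact smul_right_injective A (by exact_mod_cast Fintype.card_ne_zero) h2
  have hp' : (∑ h : H, permRep G (CosetUnion κ) (h : G) (p - i b)) = 0 := by
    simp only [map_sub, Finset.sum_sub_distrib]
    rw [← ha, ← norm_map ρ _ i heq, ← hNm, hb, hab, sub_self]
  have hmem : p - i b ∈ aug (permRep G (CosetUnion κ)) H :=
    isFlasque_permRep (CosetUnion κ) H _ (by rw [finsum_rep]; exact hp')
  have := map_aug _ _ _ hq H hmem
  rw [map_sub] at this
  have h0 : (LinearMap.range i).mkQ (i b) = 0 := (Submodule.Quotient.mk_eq_zero _).2 ⟨b, rfl⟩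
  rwa [h0, sub_zero] at this

end Groth.Agent.GLatLib
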